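import Groth.Prelude.Def_Red2
import Groth.Prelude.Def_GmPts

/-!
Points of the additive group `Red.Ga S`: `Red.gaFn` is a group isomorphism from the (multiplicatively written)
group of `T`-points onto the additive group of global functions of `T`.
-/

universe u

open CategoryTheory CategoryTheory.Limits MonoidalCategory CartesianMonoidalCategory MonObj AlgebraicGeometry Opposite

noncomputable section

namespace Groth.Agent.GaPts

/-- coordinate ring of 𝔾_a over ℤ -/
abbrev Coord : Type u := SymmetricAlgebra (ULift.{u} ℤ) (ULift.{u} ℤ)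

abbrev gen : Coord.{u} := SymmetricAlgebra.ι (ULift.{u} ℤ) (ULift.{u} ℤ) (ULift.up 1)

abbrev GaZ : Over GmPts.baseZ.{u} := Red.GaZ

abbrev coordIso : Γ(Spec (CommRingCat.of Coord.{u}), ⊤) ≅ CommRingCat.of Coord.{u} :=
  Scheme.ΓSpecIso (CommRingCat.of Coord.{u})

theorem ringHom_ext_gen {R : Type u} [CommRing R] {f g : Coord.{u} →+* R} (h : f gen = g gen) : f = g := by
  have hA : f.comp (algebraMap (ULift.{u} ℤ) Coord.{u}) = g.comp (algebraMap (ULift.{u} ℤ) Coord.{u}) := by
    have h2 : ((f.comp (algebraMap (ULift.{u} ℤ) Coord.{u})).comp ULift.ringEquiv.symm.toRingHom) =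
        ((g.comp (algebraMap (ULift.{u} ℤ) Coord.{u})).comp ULift.ringEquiv.symm.toRingHom) :=
      RingHom.ext_int _ _
    ext r
    exact DFunLike.congr_fun h2 r.down
  refine RingHom.ext fun a => ?_
  refine SymmetricAlgebra.induction (ULift.{u} ℤ) (ULift.{u} ℤ) (motive := fun a => f a = g a)
    (fun r => DFunLike.congr_fun hA r) (fun x => ?_)
    (fun a b ha hb => by rw [map_mul, map_mul, ha, hb])
    (fun a b ha hb => by rw [map_add, map_add, ha, hb]) a
  have hx : x = x • (ULift.up 1 : ULift.{u} ℤ) := by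
    rw [smul_eq_mul]; exact (_root_.mul_one x).symm
  have e : x • gen.{u} = algebraMap (ULift.{u} ℤ) Coord.{u} x * gen := Algebra.smul_def x gen
  rw [hx, map_smul]
  refine (congrArg f e).trans (Eq.trans ?_ (congrArg g e).symm)
  refine (f.map_mul _ _).trans (Eq.trans ?_ (g.map_mul _ _).symm)
  exact congrArg₂ (· * ·) (DFunLike.congr_fun hA x) h

/-- The algebra map `ℤ[X] → ℤ[X]` (symmetric algebra to polynomials). -/
def toPoly : Coord.{u} →ₐ[ULift.{u} ℤ] Polynomial (ULift.{u} ℤ) :=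
  SymmetricAlgebra.lift (LinearMap.toSpanSingleton (ULift.{u} ℤ) (Polynomial (ULift.{u} ℤ)) Polynomial.X)

/-- The ring map `ℤ[X] → R` sending `X` to `v`. -/
def ringHomOfFn {R : Type u} [CommRing R] (v : R) : Coord.{u} →+* R :=
  (Polynomial.eval₂RingHom ((Int.castRingHom R).comp (ULift.ringEquiv : ULift.{u} ℤ ≃+* ℤ).toRingHom) v).comp
    toPoly.toRingHom

theorem ringHomOfFn_gen {R : Type u} [CommRing R] (v : R) : ringHomOfFn v gen = v := by
  change Polynomial.eval₂ _ v (toPoly gen) = v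
  rw [toPoly, SymmetricAlgebra.lift_ι_apply, LinearMap.toSpanSingleton_apply]
  rw [show (ULift.up 1 : ULift.{u} ℤ) = 1 from rfl, one_smul, Polynomial.eval₂_X]

variable {S : Scheme.{u}} {T T' : Over S}

abbrev specPt (x : T ⟶ Red.Ga S) : T.left ⟶ Spec (CommRingCat.of Coord.{u}) :=
  x.left ≫ pullback.fst GaZ.hom (GmPts.toBaseZ S)

def ringHomOfPt (x : T ⟶ Red.Ga S) : Coord.{u} →+* Γ(T.left, ⊤) := (coordIso.inv ≫ (specPt x).appTop).hom

theorem ringHomOfPt_gen (x : T ⟶ Red.Ga S) : ringHomOfPt x gen = Red.gaFn x := rfl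

def homOfFn (v : Γ(T.left, ⊤)) : CommRingCat.of Coord.{u} ⟶ Γ(T.left, ⊤) := CommRingCat.ofHom (ringHomOfFn v)

def specOfFn (v : Γ(T.left, ⊤)) : T.left ⟶ Spec (CommRingCat.of Coord.{u}) :=
  ΓSpec.adjunction.homEquiv T.left (op (CommRingCat.of Coord.{u})) (homOfFn v).op

/-- The point of 𝔾_a attached to a global function. -/
def ptOfFn (v : Γ(T.left, ⊤)) : T ⟶ Red.Ga S :=
  Over.homMk (pullback.lift (specOfFn v) T.hom (specULiftZIsTerminal.hom_ext _ _)) (pullback.lift_snd _ _ _)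

theorem specPt_ptOfFn (v : Γ(T.left, ⊤)) : specPt (S := S) (ptOfFn v) = specOfFn v := pullback.lift_fst _ _ _

theorem gaFn_ptOfFn (v : Γ(T.left, ⊤)) : Red.gaFn (ptOfFn v : T ⟶ Red.Ga S) = v := by
  change (coordIso.inv ≫ (specPt (ptOfFn v : T ⟶ Red.Ga S)).appTop).hom gen = v
  rw [specPt_ptOfFn, show coordIso.inv ≫ (specOfFn v).appTop = homOfFn v from
    ΓSpecIso_inv_ΓSpec_adjunction_homEquiv _]
  exact ringHomOfFn_gen v

theorem gaFn_injective : Function.Injective (fun x : T ⟶ Red.Ga S => Red.gaFn x) := by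
  intro x y h
  have h1 : ringHomOfPt x = ringHomOfPt y := ringHom_ext_gen h
  have h2 : specPt x = specPt y := by
    apply (ΓSpec.adjunction.homEquiv T.left (op (CommRingCat.of Coord.{u}))).symm.injective
    rw [Adjunction.homEquiv_counit, Adjunction.homEquiv_counit, ΓSpec.adjunction_counit_app]
    change (coordIso.inv ≫ (specPt x).appTop).op = (coordIso.inv ≫ (specPt y).appTop).op
    congr 1
    ext1
    exact h1
  ext1
  apply pullback.hom_ext
  · exact h2
  · exact (Over.w x).trans (Over.w y).symm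

theorem gaFn_eq_iff {x y : T ⟶ Red.Ga S} : Red.gaFn x = Red.gaFn y ↔ x = y :=
  ⟨fun h => gaFn_injective h, fun h => h ▸ rfl⟩

theorem gaFn_comp (g : T' ⟶ T) (x : T ⟶ Red.Ga S) : Red.gaFn (g ≫ x) = g.left.appTop (Red.gaFn x) := by
  change ((g ≫ x).left ≫ pullback.fst GaZ.hom (GmPts.toBaseZ S)).appTop (coordIso.inv gen) = _
  rw [Over.comp_left, Category.assoc, GmPts.appTop_comp_apply]
  rfl

theorem ptOfFn_comp (g : T' ⟶ T) (v : Γ(T.left, ⊤)) :
    g ≫ (ptOfFn v : T ⟶ Red.Ga S) = ptOfFn (g.left.appTop v) := by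
  apply gaFn_injective
  simp only [gaFn_comp, gaFn_ptOfFn]

def pairPt (t t' : T ⟶ Red.Ga S) : T.left ⟶ (GaZ ⊗ GaZ).left :=
  (lift t t').left ≫ (Functor.LaxMonoidal.μ (Over.pullback (GmPts.toBaseZ S)) GaZ GaZ).left ≫
    pullback.fst (GaZ ⊗ GaZ).hom (GmPts.toBaseZ S)

theorem specPt_mul (t t' : T ⟶ Red.Ga S) : specPt (t * t') = pairPt t t' ≫ μ[GaZ].left := by
  have h1 : t * t' = lift t t' ≫ μ[Red.Ga S] := Hom.mul_def t t'
  have h2 : μ[Red.Ga S] = Functor.LaxMonoidal.μ (Over.pullback (GmPts.toBaseZ S)) GaZ GaZ ≫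
      (Over.pullback (GmPts.toBaseZ S)).map μ[GaZ] := rfl
  have h3 := GmPts.pullback_map_left_fst (S := S) μ[GaZ]
  rw [specPt, pairPt, h1, h2, Over.comp_left, Over.comp_left]
  simp only [Category.assoc]
  exact _ ≫= (_ ≫= h3)

theorem pairPt_fst (t t' : T ⟶ Red.Ga S) : pairPt t t' ≫ pullback.fst GaZ.hom GaZ.hom = specPt t := by
  rw [pairPt, Category.assoc, Category.assoc, Over.μ_pullback_left_fst_fst, ← Category.assoc]
  congr 1
  rw [← Over.fst_left, ← Over.comp_left, lift_fst]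

theorem pairPt_snd (t t' : T ⟶ Red.Ga S) : pairPt t t' ≫ pullback.snd GaZ.hom GaZ.hom = specPt t' := by
  rw [pairPt, Category.assoc, Category.assoc, Over.μ_pullback_left_fst_snd, ← Category.assoc]
  congr 1
  rw [← Over.snd_left, ← Over.comp_left, lift_snd]

theorem specMap_appTop_coordIso_inv {R : CommRingCat.{u}} (φ : CommRingCat.of Coord.{u} ⟶ R) (c : Coord.{u}) :
    (Spec.map φ).appTop (coordIso.inv c) = (Scheme.ΓSpecIso R).inv (φ c) := by
  have h := congrArg (fun ψ => (ConcreteCategory.hom ψ) c) (Scheme.ΓSpecIso_inv_naturality φ)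
  exact h.symm

/-- On `Spec` of a commutative Hopf algebra, multiplication pulls a primitive function back to the sum. -/
theorem mul_appTop_of_primitive {k : Type u} [CommRing k] (A : Type u) [CommRing A] [HopfAlgebra k A] (g : A)
    (hg : Coalgebra.comul (R := k) g = g ⊗ₜ[k] 1 + 1 ⊗ₜ[k] g) :
    let G := (Spec (CommRingCat.of A)).asOver (Spec (CommRingCat.of k))
    μ[G].left.appTop ((Scheme.ΓSpecIso (CommRingCat.of A)).inv g) =
      (pullback.fst G.hom G.hom).appTop ((Scheme.ΓSpecIso (CommRingCat.of A)).inv g) +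
        (pullback.snd G.hom G.hom).appTop ((Scheme.ΓSpecIso (CommRingCat.of A)).inv g) := by
  intro G
  let iL : A →+* TensorProduct k A A := Algebra.TensorProduct.includeLeftRingHom
  let iR : A →+* TensorProduct k A A :=
    ((Algebra.TensorProduct.includeRight (R := k) (A := A) (B := A) : A →ₐ[k] TensorProduct k A A) :
      A →+* TensorProduct k A A)
  let fC : Spec (CommRingCat.of A) ⟶ Spec (CommRingCat.of k) := Spec.map (CommRingCat.ofHom (algebraMap k A))
  let psi := pullbackSpecIso k A A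
  have hfst : pullback.fst fC fC = psi.hom ≫ Spec.map (CommRingCat.ofHom iL) := by
    rw [← pullbackSpecIso_inv_fst, Iso.hom_inv_id_assoc]
  have hsnd : pullback.snd fC fC = psi.hom ≫ Spec.map (CommRingCat.ofHom iR) := by
    rw [← pullbackSpecIso_inv_snd, Iso.hom_inv_id_assoc]
  have hc : (CommRingCat.ofHom (Bialgebra.comulAlgHom k A).toRingHom) g =
      (CommRingCat.ofHom iL) g + (CommRingCat.ofHom iR) g := hg
  have hnat : ∀ {R : CommRingCat.{u}} (φ : CommRingCat.of A ⟶ R) (c : A),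
      (Spec.map φ).appTop ((Scheme.ΓSpecIso (CommRingCat.of A)).inv c) = (Scheme.ΓSpecIso R).inv (φ c) :=
    fun φ c => (congrArg (fun ψ => (ConcreteCategory.hom ψ) c) (Scheme.ΓSpecIso_inv_naturality φ)).symm
  change (psi.hom ≫ Spec.map (CommRingCat.ofHom (Bialgebra.comulAlgHom k A).toRingHom)).appTop
      ((Scheme.ΓSpecIso (CommRingCat.of A)).inv g) =
    (pullback.fst fC fC).appTop ((Scheme.ΓSpecIso (CommRingCat.of A)).inv g) +
      (pullback.snd fC fC).appTop ((Scheme.ΓSpecIso (CommRingCat.of A)).inv g)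
  rw [hfst, hsnd, GmPts.appTop_comp_apply, GmPts.appTop_comp_apply, GmPts.appTop_comp_apply,
    hnat, hnat, hnat, hc, map_add, map_add]

theorem mul_appTop_gen : μ[GaZ].left.appTop (coordIso.inv gen.{u}) =
    (pullback.fst GaZ.hom GaZ.hom).appTop (coordIso.inv gen) +
      (pullback.snd GaZ.hom GaZ.hom).appTop (coordIso.inv gen) :=
  mul_appTop_of_primitive _ gen (SymmetricAlgebra.comul_ι _ _ _)

theorem gaFn_mul (t t' : T ⟶ Red.Ga S) : Red.gaFn (t * t') = Red.gaFn t + Red.gaFn t' := by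
  have e1 : Red.gaFn (t * t') = (pairPt t t').appTop (μ[GaZ].left.appTop (coordIso.inv gen)) := by
    change (specPt (t * t')).appTop (coordIso.inv gen) = _
    rw [specPt_mul]
    exact GmPts.appTop_comp_apply _ _ _
  rw [e1, mul_appTop_gen, map_add, ← GmPts.appTop_comp_apply, ← GmPts.appTop_comp_apply, pairPt_fst, pairPt_snd]
  rfl

/-- `gaFn` as a homomorphism. -/
def gaFnHom : (T ⟶ Red.Ga S) →* Multiplicative Γ(T.left, ⊤) :=
  MonoidHom.mk' (fun t => Multiplicative.ofAdd (Red.gaFn t)) fun t t' => by rw [gaFn_mul]; rfl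

theorem gaFn_one : Red.gaFn (1 : T ⟶ Red.Ga S) = 0 :=
  congrArg Multiplicative.toAdd (map_one (gaFnHom (S := S) (T := T)))

theorem gaFn_inv (t : T ⟶ Red.Ga S) : Red.gaFn t⁻¹ = - Red.gaFn t :=
  congrArg Multiplicative.toAdd (map_inv (gaFnHom (S := S) (T := T)) t)

theorem ptOfFn_add (v w : Γ(T.left, ⊤)) :
    (ptOfFn (v + w) : T ⟶ Red.Ga S) = ptOfFn v * ptOfFn w := by
  apply gaFn_injective
  simp only [gaFn_mul, gaFn_ptOfFn]

theorem ptOfFn_zero : (ptOfFn 0 : T ⟶ Red.Ga S) = 1 := by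
  apply gaFn_injective
  simp only [gaFn_one, gaFn_ptOfFn]

end Groth.Agent.GaPts

end
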